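import Mathlib

/-!
# A `2`-group with automorphisms `τ ^ 3 = σ`, `σ ^ 3 = 1` (helper880, for S3831)

`core` : if the commutators of the `2`-group `N` are fixed by `σ`, `N` is generated by the elements `n⁻¹ σ(n)` and
`[c, σ(c)] = z` (a fixed involution) for all `c = σ⁻¹(w) w⁻¹ ≠ 1`, then `σ = 1`.
-/

set_option autoImplicit false
set_option linter.unusedSectionVars false

namespace Cfsg.Agent.H880.Six.Core

open Subgroup
open scoped commutatorElement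

variable {N : Type*} [Group N]

theorem eq_one_of_pow_three (h2 : IsPGroup 2 N) {c : N} (hc : c ^ 3 = 1) : c = 1 := by
  obtain ⟨k, hk⟩ := h2 c
  have h1 := orderOf_dvd_of_pow_eq_one hk
  have h3 := orderOf_dvd_of_pow_eq_one hc
  have h4 : orderOf c ∣ 1 := by
    have h5 : Nat.Coprime (2 ^ k) 3 := Nat.Coprime.pow_left k (by norm_num)
    rw [← h5.gcd_eq_one]
    exact Nat.dvd_gcd h1 h3
  exact orderOf_eq_one_iff.1 (Nat.dvd_one.1 h4)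

theorem app3 {σ : MulAut N} (hσ : σ ^ 3 = 1) (n : N) : σ (σ (σ n)) = n := by
  have h1 : (σ ^ 3) n = n := by rw [hσ]; rfl
  exact h1

theorem inv_app {σ : MulAut N} (hσ : σ ^ 3 = 1) (n : N) : σ⁻¹ n = σ (σ n) := by
  have h1 : σ (σ⁻¹ n) = n := MulAut.apply_inv_self N σ n
  calc σ⁻¹ n = σ (σ (σ (σ⁻¹ n))) := (app3 hσ _).symm
    _ = σ (σ n) := by rw [h1]

theorem fix_of_mul_fix (h2 : IsPGroup 2 N) {σ : MulAut N} (hσ : σ ^ 3 = 1) {n c : N} (hc : σ c = c)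
    (h : σ n = n * c) : σ n = n := by
  have h1 : σ (σ (σ n)) = n * c ^ 3 := by
    rw [h, map_mul, h, hc, map_mul, map_mul, h, hc]
    simp only [pow_succ, pow_zero, one_mul, mul_assoc]
  rw [app3 hσ] at h1
  have h3 : c ^ 3 = 1 := by
    have : n * c ^ 3 = n * 1 := by rw [mul_one]; exact h1.symm
    exact mul_left_cancel this
  rw [h, eq_one_of_pow_three h2 h3, mul_one]

theorem comm_mul_left (hz : ∀ a b c : N, ⁅a, b⁆ * c = c * ⁅a, b⁆) (x y w : N) :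
    ⁅x * y, w⁆ = ⁅x, w⁆ * ⁅y, w⁆ := by
  have h1 : ⁅x * y, w⁆ = x * (⁅y, w⁆ * (w * x⁻¹ * w⁻¹)) := by
    simp only [commutatorElement_def]; group
  rw [h1, hz, ← mul_assoc]
  simp only [commutatorElement_def]
  group

theorem comm_mul_right (hz : ∀ a b c : N, ⁅a, b⁆ * c = c * ⁅a, b⁆) (x y w : N) :
    ⁅w, x * y⁆ = ⁅w, x⁆ * ⁅w, y⁆ := by
  rw [← commutatorElement_inv, comm_mul_left hz, mul_inv_rev, commutatorElement_inv, commutatorElement_inv, hz]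

/-- **The core lemma.** -/
theorem core [Finite N] (h2 : IsPGroup 2 N) {σ τ : MulAut N} (hτ : τ ^ 3 = σ) (hσ : σ ^ 3 = 1)
    (hc : ∀ a b : N, σ ⁅a, b⁆ = ⁅a, b⁆)
    (hgen : closure (Set.range fun n : N => n⁻¹ * σ n) = ⊤) {z : N} (hz : z ≠ 1) (hz2 : z * z = 1)
    (hQ : ∀ w, σ w ≠ w → ⁅σ⁻¹ w * w⁻¹, σ (σ⁻¹ w * w⁻¹)⁆ = z) (n : N) : σ n = n := by
  by_contra hn
  -- (1) fixed elements are central
  have hcen : ∀ c : N, σ c = c → ∀ m : N, c * m = m * c := by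
    intro c hcc m
    have h1 : ∀ m : N, (m⁻¹ * σ m) * c = c * (m⁻¹ * σ m) := by
      intro m
      have h3 := hc m c
      rw [map_commutatorElement, hcc, commutatorElement_def, commutatorElement_def] at h3
      have h4 : σ m * c * (σ m)⁻¹ = m * c * m⁻¹ := mul_right_cancel h3
      calc (m⁻¹ * σ m) * c = m⁻¹ * (σ m * c * (σ m)⁻¹) * σ m := by group
        _ = m⁻¹ * (m * c * m⁻¹) * σ m := by rw [h4]
        _ = c * (m⁻¹ * σ m) := by group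
    have h5 : (⊤ : Subgroup N) ≤ centralizer {c} := by
      rw [← hgen, closure_le]
      rintro _ ⟨m, rfl⟩
      rw [SetLike.mem_coe, mem_centralizer_iff]
      intro g hg
      rw [Set.mem_singleton_iff.1 hg]
      exact (h1 m).symm
    have h6 := mem_centralizer_iff.1 (h5 (mem_top m)) c rfl
    exact h6
  have hcc : ∀ a b c : N, ⁅a, b⁆ * c = c * ⁅a, b⁆ := fun a b c => hcen _ (hc a b) c
  -- (3) norms are fixed
  have hs : ∀ b : N, σ (b * σ b * σ (σ b)) = b * σ b * σ (σ b) := by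
    intro b
    set s := b * σ b * σ (σ b) with hs
    refine fix_of_mul_fix h2 hσ (hc s⁻¹ b⁻¹) ?_
    rw [hs, map_mul, map_mul, app3 hσ, ← hs]
    rw [commutatorElement_def, hs]
    group
  have hσ4 : ∀ m : N, σ (σ (σ m)) = m := app3 hσ
  -- (4)
  have hcard : (Nat.card N).Coprime 3 := by
    obtain ⟨l, hl⟩ := IsPGroup.iff_card.1 h2
    rw [hl]
    exact Nat.Coprime.pow_left l (by norm_num)
  have hone : ∀ c : N, σ c = c → ∀ m : N, ⁅c, m⁆ = 1 ∧ ⁅m, c⁆ = 1 := by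
    intro c hc' m
    have h1 := hcen c hc' m
    exact ⟨commutatorElement_eq_one_iff_mul_comm.2 h1, commutatorElement_eq_one_iff_mul_comm.2 h1.symm⟩
  have hQ' : ∀ a : N, σ a ≠ a → ⁅a, σ a⁆ = z := by
    intro a ha
    obtain ⟨b, hk⟩ : ∃ b : N, b ^ 3 = a := (powCoprime hcard).surjective a
    obtain ⟨s, hsd⟩ : ∃ s, s = b * σ b * σ (σ b) := ⟨_, rfl⟩
    have hs' := hs b
    rw [← hsd] at hs'
    have hsc := hcen s hs'
    obtain ⟨w, hw⟩ : ∃ w, w = σ b * b⁻¹ := ⟨_, rfl⟩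
    have e1 : (σ (σ b))⁻¹ = s⁻¹ * b * σ b := by rw [hsd]; group
    have hsc' : ∀ m : N, s⁻¹ * m = m * s⁻¹ := hcen s⁻¹ (by rw [map_inv, hs'])
    have e2 : σ⁻¹ w * w⁻¹ = (s⁻¹ * ⁅σ b, b⁆) * a := by
      rw [inv_app hσ, hw]
      have e3 : σ (σ (σ b * b⁻¹)) = b * (σ (σ b))⁻¹ := by
        rw [map_mul, map_mul, map_inv, map_inv, hσ4]
      rw [e3, e1, mul_inv_rev, inv_inv]
      calc b * (s⁻¹ * b * σ b) * (b * (σ b)⁻¹) = (b * s⁻¹) * (b * (σ b * b * (σ b)⁻¹)) := by group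
        _ = (s⁻¹ * b) * (b * (⁅σ b, b⁆ * b)) := by rw [← hsc', commutatorElement_def]; group
        _ = s⁻¹ * (b * b * ⁅σ b, b⁆ * b) := by group
        _ = s⁻¹ * (⁅σ b, b⁆ * (b * b) * b) := by rw [hcc]
        _ = (s⁻¹ * ⁅σ b, b⁆) * b ^ 3 := by
          simp only [pow_succ, pow_zero, one_mul, mul_assoc]
        _ = _ := by rw [hk]
    obtain ⟨ζ, hζ⟩ : ∃ ζ, ζ = s⁻¹ * ⁅σ b, b⁆ := ⟨_, rfl⟩
    rw [← hζ] at e2
    have hζf : σ ζ = ζ := by rw [hζ, map_mul, map_inv, hs', hc]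
    have hwf : σ w ≠ w := by
      intro h
      have h3 : σ⁻¹ w * w⁻¹ = 1 := by rw [inv_app hσ, h, h, mul_inv_cancel]
      rw [e2] at h3
      have h4 : a = ζ⁻¹ := eq_inv_of_mul_eq_one_right h3
      apply ha
      rw [h4, map_inv, hζf]
    have h5 := hQ w hwf
    rw [e2, map_mul, hζf, comm_mul_left hcc, comm_mul_right hcc ζ (σ a) a, (hone ζ hζf _).1, (hone ζ hζf _).2,
      one_mul, one_mul] at h5
    exact h5
  -- (5)
  have hpol : ∀ a b : N, σ a ≠ a → σ b ≠ b →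
      σ (a * b) = a * b ∨ σ (a * σ b) = a * σ b ∨ σ (a * σ (σ b)) = a * σ (σ b) := by
    intro a b ha hb
    by_contra hcon
    push Not at hcon
    obtain ⟨h0, h1, h2'⟩ := hcon
    have hb1 : σ (σ b) ≠ σ b := fun h => hb (σ.injective h)
    have hb2 : σ (σ (σ b)) ≠ σ (σ b) := fun h => hb1 (σ.injective h)
    have key : ∀ b : N, σ b ≠ b → σ (a * b) ≠ a * b → ⁅a, σ b⁆ * ⁅b, σ a⁆ = z := by
      intro b hb hab
      have h3 := hQ' _ hab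
      rw [map_mul, comm_mul_left hcc, comm_mul_right hcc (σ a) (σ b) a, comm_mul_right hcc (σ a) (σ b) b,
        hQ' a ha, hQ' b hb] at h3
      have h4 : ⁅a, σ b⁆ * ⁅b, σ a⁆ = z * ((z * ⁅a, σ b⁆) * (⁅b, σ a⁆ * z)) * z := by
        calc ⁅a, σ b⁆ * ⁅b, σ a⁆ = 1 * (⁅a, σ b⁆ * ⁅b, σ a⁆) * 1 := by group
          _ = (z * z) * (⁅a, σ b⁆ * ⁅b, σ a⁆) * (z * z) := by rw [hz2]
          _ = _ := by group
      rw [h4, h3, hz2, one_mul]
    have k0 := key b hb h0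
    have k1 := key (σ b) hb1 h1
    have k2 := key (σ (σ b)) hb2 h2'
    rw [hσ4] at k2
    have hsb := hs b
    have e1 : ⁅a, σ b⁆ * ⁅a, σ (σ b)⁆ * ⁅a, b⁆ = 1 := by
      rw [← comm_mul_right hcc, ← comm_mul_right hcc]
      have h5 : σ b * σ (σ b) * b = b * σ b * σ (σ b) := by
        rw [map_mul, map_mul, hσ4] at hsb
        exact hsb
      rw [h5]
      exact (hone _ hsb a).2
    have e2 : ⁅b, σ a⁆ * ⁅σ b, σ a⁆ * ⁅σ (σ b), σ a⁆ = 1 := by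
      rw [← comm_mul_left hcc, ← comm_mul_left hcc]
      exact (hone _ hsb _).1
    have e3 : z * z * z = (⁅a, σ b⁆ * ⁅a, σ (σ b)⁆ * ⁅a, b⁆) * (⁅b, σ a⁆ * ⁅σ b, σ a⁆ * ⁅σ (σ b), σ a⁆) := by
      have h6 : z * z * z = (⁅a, σ b⁆ * ⁅b, σ a⁆) * (⁅a, σ (σ b)⁆ * ⁅σ b, σ a⁆) * (⁅a, b⁆ * ⁅σ (σ b), σ a⁆) := by
        rw [k0, k1, k2]
      rw [h6]
      calc (⁅a, σ b⁆ * ⁅b, σ a⁆) * (⁅a, σ (σ b)⁆ * ⁅σ b, σ a⁆) * (⁅a, b⁆ * ⁅σ (σ b), σ a⁆)
          = ⁅a, σ b⁆ * (⁅b, σ a⁆ * ⁅a, σ (σ b)⁆) * (⁅σ b, σ a⁆ * ⁅a, b⁆) * ⁅σ (σ b), σ a⁆ := by group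
        _ = ⁅a, σ b⁆ * (⁅a, σ (σ b)⁆ * ⁅b, σ a⁆) * (⁅a, b⁆ * ⁅σ b, σ a⁆) * ⁅σ (σ b), σ a⁆ := by
            rw [hcc b (σ a), hcc (σ b) (σ a)]
        _ = ⁅a, σ b⁆ * ⁅a, σ (σ b)⁆ * (⁅b, σ a⁆ * ⁅a, b⁆) * ⁅σ b, σ a⁆ * ⁅σ (σ b), σ a⁆ := by group
        _ = ⁅a, σ b⁆ * ⁅a, σ (σ b)⁆ * (⁅a, b⁆ * ⁅b, σ a⁆) * ⁅σ b, σ a⁆ * ⁅σ (σ b), σ a⁆ := by
            rw [hcc b (σ a)]
        _ = _ := by group
    rw [e1, e2, one_mul, hz2, one_mul] at e3
    exact hz e3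
  -- (6)
  have hτσ : ∀ m, τ (σ m) = σ (τ m) := by
    intro m
    have h1 : (τ * τ ^ 3) m = (τ ^ 3 * τ) m := by rw [(pow_mul_comm' τ 3)]
    rw [hτ] at h1
    exact h1
  have hτn : σ (τ n) ≠ τ n := by
    intro h
    rw [← hτσ] at h
    exact hn (τ.injective h)
  have fin : ∀ ρ : MulAut N, (∀ m, ρ (σ m) = σ (ρ m)) → ρ ^ 6 = σ ^ 2 → σ (n * ρ n) = n * ρ n → False := by
    intro ρ hρ h6 hf
    set c := n * ρ n with hcd
    have hρc : ∀ c, σ c = c → σ (ρ c) = ρ c := by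
      intro c h
      rw [← hρ, h]
    have hρn : ρ n = n⁻¹ * c := by rw [hcd]; group
    -- `ρ² n = n c'`
    have h1 : ρ (ρ n) = n * (c⁻¹ * ρ c) := by
      have h2 : ρ (ρ n) = (ρ n)⁻¹ * ρ c := by
        rw [hcd, map_mul]; group
      rw [h2, hρn, mul_inv_rev, inv_inv, hcen c⁻¹ (by rw [map_inv, hf]) n, mul_assoc]
    set c' := c⁻¹ * ρ c with hc'
    have hc'f : σ c' = c' := by rw [hc', map_mul, map_inv, hf, hρc c hf]
    have hρc' := hρc _ hc'f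
    have h4 : ρ (ρ (ρ (ρ (ρ (ρ n))))) = n * (c' * ρ (ρ c') * ρ (ρ (ρ (ρ c')))) := by
      rw [h1, map_mul, map_mul, h1, map_mul, map_mul, map_mul, map_mul, h1]
      group
    have h5 : (ρ ^ 6) n = ρ (ρ (ρ (ρ (ρ (ρ n))))) := rfl
    have h7 : (σ ^ 2) n = σ (σ n) := rfl
    rw [← h5, h6, h7] at h4
    set d := c' * ρ (ρ c') * ρ (ρ (ρ (ρ c'))) with hd
    have hdf : σ d = d := by
      rw [hd, map_mul, map_mul, hc'f, hρc _ hρc', hρc _ (hρc _ (hρc _ hρc'))]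
    have h8 : σ n = n * (d * d) := by
      have h9 : σ (σ (σ (σ n))) = n * d * d := by
        rw [h4, map_mul, map_mul, hdf, hdf, h4]
      rw [hσ4] at h9
      rw [h9, mul_assoc]
    exact hn (fix_of_mul_fix h2 hσ (by rw [map_mul, hdf]) h8)
  have hτ6 : τ ^ 6 = σ ^ 2 := by rw [← hτ, ← pow_mul]
  have hcomm : Commute τ σ := by
    rw [← hτ]; exact (Commute.refl τ).pow_right 3
  rcases hpol n (τ n) hn hτn with h | h | h
  · exact fin τ hτσ hτ6 h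
  · refine fin (σ * τ) (fun m => ?_) ?_ h
    · change σ (τ (σ m)) = σ (σ (τ m))
      rw [hτσ]
    · rw [hcomm.symm.mul_pow, hτ6, show (6 : ℕ) = 3 * 2 by norm_num, pow_mul, hσ, one_pow, one_mul]
  · refine fin (σ * (σ * τ)) (fun m => ?_) ?_ h
    · change σ (σ (τ (σ m))) = σ (σ (σ (τ m)))
      rw [hτσ]
    · have h9 : Commute σ (σ * τ) := (Commute.refl σ).mul_right hcomm.symm
      rw [h9.mul_pow, hcomm.symm.mul_pow, hτ6, show (6 : ℕ) = 3 * 2 by norm_num, pow_mul, hσ, one_pow, one_mul,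
        one_mul]

end Cfsg.Agent.H880.Six.Core
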