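import Cfsg.Agent.H880.Six.Struct

/-!
# Elements of order nine whose cube is a root element (helper880, for S3831)

`nine` : `H` finite solvable, `x ^ 3 = y`, `St y P`: `y ∈ O_3(H)`.
-/

set_option autoImplicit false
set_option linter.unusedSectionVars false

namespace Cfsg.Agent.H880.Six.Nine

open Cfsg Subgroup Cfsg.Agent.H880.Six.Struct
open scoped commutatorElement

variable {H : Type*} [Group H] [Finite H] {x y : H} {P : H → Prop}

/-- `x`-invariant subgroups of `O_2(H)` not centralised by `y` -/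
def Fam (x y : H) (N : Subgroup H) : Prop :=
  N ≤ pCore 2 H ∧ (∀ n ∈ N, x * n * x⁻¹ ∈ N) ∧ ∃ n ∈ N, n * y ≠ y * n

theorem Fam.norm {N : Subgroup H} (h : ∀ n ∈ N, x * n * x⁻¹ ∈ N) : x ∈ normalizer (N : Set H) := by
  rw [Subgroup.mem_normalizer_iff_map_conj_eq]
  refine Subgroup.eq_of_le_of_card_ge ?_ (le_of_eq (Subgroup.card_map_of_injective
    (K := N) (MulAut.conj x).injective).symm)
  rintro _ ⟨a, ha, rfl⟩
  exact h a ha

/-- **`O_3(H) = 1`** -/
theorem nine_core (hs : Group.IsSolvable H) (hxy : x ^ 3 = y) (S : St y P) (hO : pCore 3 H = ⊥) : y = 1 := by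
  by_contra hy
  obtain ⟨ζ, hζ1, hζ2, hζy, hζR, hζc, hζP⟩ := S.exists_zeta hs hO hy
  obtain ⟨w₀, hw₀, hwy₀⟩ := S.exists_w hs hO hy
  have hRn : (pCore 2 H).Normal := Lib.Cores.pCore_normal 2
  have hRp : IsPGroup 2 (pCore 2 H) := Lib.Cores.pCore_isPGroup 2
  have hR : Fam x y (pCore 2 H) := ⟨le_rfl, fun n hn => hRn.conj_mem n hn x, w₀, hw₀, hwy₀⟩
  -- a minimal member of the family
  obtain ⟨N, hN, hmin⟩ : ∃ N : Subgroup H, Fam x y N ∧ ∀ N' : Subgroup H, Fam x y N' → N' ≤ N → N' = N := by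
    have hfin : (Set.univ : Set (Subgroup H)).Finite := Set.toFinite _
    obtain ⟨N, hN, hmin⟩ := (Set.toFinite {N : Subgroup H | Fam x y N}).exists_minimal ⟨_, hR⟩
    exact ⟨N, hN, fun N' h1 h2 => le_antisymm h2 (hmin h1 h2)⟩
  obtain ⟨hNR, hNx, n₀, hn₀, hny₀⟩ := hN
  have hxyc : x * y = y * x := by rw [← hxy]; exact (pow_mul_comm' x 3).symm
  have hNxn := Fam.norm hNx
  have hNyn : y ∈ normalizer (N : Set H) := by rw [← hxy]; exact pow_mem hNxn 3
  -- proper invariant subgroups are centralised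
  have hcen : ∀ N' : Subgroup H, N' < N → (∀ n ∈ N', x * n * x⁻¹ ∈ N') → ∀ n ∈ N', n * y = y * n := by
    intro N' h1 h2 n hn
    by_contra h3
    exact h1.ne (hmin N' ⟨h1.le.trans hNR, h2, n, hn, h3⟩ h1.le)
  have hNp : IsPGroup 2 N := hRp.to_le hNR
  set ρ : normalizer (N : Set H) →* MulAut N := N.normalizerMonoidHom with hρ
  set τ : MulAut N := ρ ⟨x, hNxn⟩ with hτd
  set σ : MulAut N := ρ ⟨y, hNyn⟩ with hσd
  have hτ : τ ^ 3 = σ := by
    rw [hτd, ← map_pow, hσd]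
    congr 1
    exact Subtype.ext hxy
  have hσ : σ ^ 3 = 1 := by
    rw [hσd, ← map_pow]
    have : (⟨y, hNyn⟩ : normalizer (N : Set H)) ^ 3 = 1 := Subtype.ext S.cube
    rw [this, map_one]
  have hσa : ∀ n : N, ((σ n : N) : H) = y * n * y⁻¹ := fun n => rfl
  have hτa : ∀ n : N, ((τ n : N) : H) = x * n * x⁻¹ := fun n => rfl
  -- the commutators are fixed
  have hNs : Group.IsSolvable N := by
    have : Group.IsNilpotent N := hNp.isNilpotent
    infer_instance
  have hlt : ⁅N, N⁆ < N := by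
    refine lt_of_le_of_ne (commutator_le_self N) fun h1 => ?_
    have hNb : N ≠ ⊥ := by
      rintro rfl
      rw [mem_bot] at hn₀
      apply hny₀
      rw [hn₀, one_mul, mul_one]
    have hnt : Nontrivial N := (Subgroup.nontrivial_iff_ne_bot N).2 hNb
    have hperf : Group.IsPerfect N := Subgroup.isPerfect_iff.mpr h1
    exact Group.IsPerfect.not_isSolvable _ hNs
  have hcomm : ∀ a b : N, σ ⁅a, b⁆ = ⁅a, b⁆ := by
    intro a b
    have h1 : ((⁅a, b⁆ : N) : H) ∈ (⁅N, N⁆ : Subgroup H) := commutator_mem_commutator a.2 b.2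
    have h2 : ∀ n ∈ (⁅N, N⁆ : Subgroup H), x * n * x⁻¹ ∈ (⁅N, N⁆ : Subgroup H) := by
      have h3 : (⁅N, N⁆ : Subgroup H).map (MulAut.conj x).toMonoidHom = ⁅N, N⁆ := by
        have h4 : N.map (MulAut.conj x).toMonoidHom = N := Subgroup.mem_normalizer_iff_map_conj_eq.1 hNxn
        rw [Subgroup.map_commutator, h4]
      intro n hn
      rw [← h3]
      exact ⟨n, hn, rfl⟩
    have h3 := hcen _ hlt h2 _ h1
    apply Subtype.ext
    rw [hσa, ← h3]
    group
  -- generation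
  have hgen : closure (Set.range fun n : N => n⁻¹ * σ n) = ⊤ := by
    set K : Subgroup N := closure (Set.range fun n : N => n⁻¹ * σ n) with hK
    by_contra hne
    have h1 : K.map N.subtype < N := by
      refine lt_of_le_of_ne (map_subtype_le _) fun h2 => hne ?_
      rw [eq_top_iff]
      intro n _
      have h3 : (n : H) ∈ K.map N.subtype := by rw [h2]; exact n.2
      obtain ⟨m, hm, h4⟩ := h3
      have : m = n := Subtype.ext h4
      rwa [← this]
    have h2 : ∀ n ∈ K.map N.subtype, x * n * x⁻¹ ∈ K.map N.subtype := by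
      have h3 : K.map τ.toMonoidHom ≤ K := by
        rw [hK, MonoidHom.map_closure, closure_le]
        rintro _ ⟨_, ⟨n, rfl⟩, rfl⟩
        refine subset_closure ⟨τ n, ?_⟩
        have hc : τ (σ n) = σ (τ n) := by
          have h4 : (τ * τ ^ 3) n = (τ ^ 3 * τ) n := by rw [pow_mul_comm' τ 3]
          rw [hτ] at h4
          exact h4
        change (τ n)⁻¹ * σ (τ n) = τ (n⁻¹ * σ n)
        rw [map_mul, map_inv, hc]
      rintro _ ⟨m, hm, rfl⟩
      refine ⟨τ m, h3 ⟨m, hm, rfl⟩, ?_⟩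
      exact hτa m
    have h3 := hcen _ h1 h2
    -- all elements are fixed
    have h4 : ∀ n : N, σ n = n := by
      intro n
      have h5 : ((n⁻¹ * σ n : N) : H) ∈ K.map N.subtype := ⟨_, subset_closure ⟨n, rfl⟩, rfl⟩
      have h6 := h3 _ h5
      have h7 : σ (n⁻¹ * σ n) = n⁻¹ * σ n := by
        apply Subtype.ext
        rw [hσa, ← h6]
        group
      exact Core.fix_of_mul_fix hNp hσ h7 (by group)
    have h5 := congrArg Subtype.val (h4 ⟨n₀, hn₀⟩)
    rw [hσa] at h5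
    apply hny₀
    calc n₀ * y = (y * n₀ * y⁻¹) * y := by rw [h5]
      _ = y * n₀ := by group
  -- `ζ ∈ N` and the commutators
  have hfix : ∀ w : N, σ w ≠ w → (w : H) * y ≠ y * w := by
    intro w hw h1
    apply hw
    apply Subtype.ext
    rw [hσa, ← h1]
    group
  have hform : ∀ w : N, σ w ≠ w → ((⁅σ⁻¹ w * w⁻¹, σ (σ⁻¹ w * w⁻¹)⁆ : N) : H) = ζ := by
    intro w hw
    have h1 := S.braid (hNR w.2) (hfix w hw)
    have h2 := hζP _ h1
    have h3 : ((σ⁻¹ w : N) : H) = y⁻¹ * w * y := by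
      have h4 : σ (σ⁻¹ w) = w := MulAut.apply_inv_self _ _ _
      have h5 := congrArg Subtype.val h4
      rw [hσa] at h5
      calc ((σ⁻¹ w : N) : H) = y⁻¹ * (y * (σ⁻¹ w : N) * y⁻¹) * y := by group
        _ = _ := by rw [h5]
    have h4 : ((σ (σ⁻¹ w * w⁻¹) : N) : H) = w * (y * (w : H)⁻¹ * y⁻¹) := by
      rw [hσa]
      push_cast
      rw [h3]
      group
    have h5 : ((⁅σ⁻¹ w * w⁻¹, σ (σ⁻¹ w * w⁻¹)⁆ : N) : H) = y⁻¹ * (zz y w)⁻¹ * y := by
      have e : ((⁅σ⁻¹ w * w⁻¹, σ (σ⁻¹ w * w⁻¹)⁆ : N) : H) =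
          ⁅((σ⁻¹ w * w⁻¹ : N) : H), ((σ (σ⁻¹ w * w⁻¹) : N) : H)⁆ := rfl
      rw [e, h4]
      push_cast
      rw [h3, commutatorElement_def]
      unfold zz
      have hyy : y * y = y⁻¹ := by
        have := S.cube
        rw [pow_succ, pow_two] at this
        exact eq_inv_of_mul_eq_one_left this
      have e2 : y⁻¹ * (w : H) * y * (w : H)⁻¹ * (w * (y * (w : H)⁻¹ * y⁻¹)) * (y⁻¹ * (w : H) * y * (w : H)⁻¹)⁻¹ *
          (w * (y * (w : H)⁻¹ * y⁻¹))⁻¹ =
          y⁻¹ * w * (y * y) * (w : H)⁻¹ * y⁻¹ * w * y⁻¹ * (w : H)⁻¹ * (y * y) * w * y⁻¹ * (w : H)⁻¹ := by group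
      rw [e2, hyy]
      simp only [pow_succ, pow_zero, one_mul, mul_inv_rev, inv_inv]
      group
    rw [h5, h2]
    have h6 : ζ⁻¹ = ζ := inv_eq_of_mul_eq_one_left hζ2
    rw [h6, mul_assoc, hζy, ← mul_assoc, inv_mul_cancel, one_mul]
  have hn1 : σ ⟨n₀, hn₀⟩ ≠ ⟨n₀, hn₀⟩ := by
    intro h5
    have h6 := congrArg Subtype.val h5
    rw [hσa] at h6
    apply hny₀
    calc n₀ * y = (y * n₀ * y⁻¹) * y := by rw [h6]
      _ = y * n₀ := by group
  have hζN : ζ ∈ N := by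
    rw [← hform _ hn1]
    exact SetLike.coe_mem _
  have hfin := Core.core hNp hτ hσ hcomm hgen (z := ⟨ζ, hζN⟩) (fun h => hζ1 (congrArg Subtype.val h))
    (Subtype.ext hζ2) (fun w hw => Subtype.ext (hform w hw)) ⟨n₀, hn₀⟩
  exact hn1 hfin

/-- **Elements of order nine.** -/
theorem nine (hs : Group.IsSolvable H) (hxy : x ^ 3 = y) (S : St y P) : y ∈ pCore 3 H := by
  have hn : (pCore 3 H).Normal := Lib.Cores.pCore_normal 3
  have h1 := nine_core (H := H ⧸ pCore 3 H) (x := QuotientGroup.mk' _ x)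
    (Group.isSolvable_of_surjective (QuotientGroup.mk'_surjective (pCore 3 H))) (by rw [← map_pow, hxy])
    (S.quot (Lib.Cores.pCore_isPGroup 3)) (Lib.Cores.pCore_quotient_pCore 3)
  exact (QuotientGroup.eq_one_iff y).1 h1

end Cfsg.Agent.H880.Six.Nine
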