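import Cfsg.Agent.H880.Six.Nine
import Cfsg.Agent.H880.Six.Lrg

/-!
# Long root elements over `F₃`: the solvable subgroups; order nine (helper880, for S3831)

* `LRG.st` : the structure `St` of solvable subgroups;
* `LRG.br_in` : `⟨u, b⟩` contains `g` such that `u`, `g u g⁻¹` is a braid pair;
* `LRG.not_nine` : `conj u` has no cube root with `PS 2`.
-/

set_option autoImplicit false
set_option linter.unusedSectionVars false

namespace Cfsg.Agent.H880.Six

open Cfsg Subgroup Cfsg.Agent.H459.Rad Cfsg.Agent.H880.Six.Struct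
open scoped commutatorElement

variable {K : Type*} [Group K]

theorem conj_injective (hZ : center K = ⊥) : Function.Injective (MulAut.conj : K →* MulAut K) := by
  rw [← MonoidHom.ker_eq_bot_iff, eq_bot_iff, ← hZ]
  intro z hz
  rw [mem_center_iff]
  intro l
  have h1 : MulAut.conj z l = l := by rw [MonoidHom.mem_ker.1 hz]; rfl
  rw [MulAut.conj_apply] at h1
  calc l * z = (z * l * z⁻¹) * z := by rw [h1]
    _ = z * l := by group

theorem aut_conj (x : MulAut K) (k : K) : x * MulAut.conj k * x⁻¹ = MulAut.conj (x k) := by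
  ext l
  simp only [MulAut.mul_apply, MulAut.conj_apply, map_mul, map_inv, MulAut.apply_inv_self]

/-- **the structure of subgroups containing `u`** -/
theorem LRG.st {Z H : Type*} [Group Z] [Group H] {u : K} {Q : Subgroup K} (L : LRG u Q) (c : K →* Z)
    (hc : Function.Injective c) (ι : H →* Z) (hι : Function.Injective ι) {y : H} (hy : ι y = c u)
    (hcj : ∀ h : H, ∃ k : K, ι (h * y * h⁻¹) = c (k * u * k⁻¹)) :
    St y (fun h => ∃ k : K, ι (h * y * h⁻¹) = c (k * u * k⁻¹) ∧ Br u (k * u * k⁻¹)) where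
  cube := hι (by rw [map_pow, hy, ← map_pow, L.cube, map_one, map_one])
  pair h := by
    obtain ⟨k, hk⟩ := hcj h
    rcases L.pair k with h1 | h1 | h1
    · left
      have h2 : (closure {y, h * y * h⁻¹} : Subgroup H).map ι = (closure {u, k * u * k⁻¹} : Subgroup K).map c := by
        rw [MonoidHom.map_closure, MonoidHom.map_closure, Set.image_pair, Set.image_pair, hy, hk]
      have h3 : IsPGroup 3 ↥((closure {y, h * y * h⁻¹} : Subgroup H).map ι) := by
        rw [h2]; exact h1.map c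
      exact h3.of_equiv ((closure {y, h * y * h⁻¹} : Subgroup H).equivMapOfInjective ι hι).symm
    · exact Or.inr (Or.inl ⟨k, hk, h1⟩)
    · right; right
      have e : ι (zi y h) = c ((u * (k * u⁻¹ * k⁻¹)) ^ 3) := by
        have e1 : h * y⁻¹ * h⁻¹ = (h * y * h⁻¹)⁻¹ := by group
        have e2 : k * u⁻¹ * k⁻¹ = (k * u * k⁻¹)⁻¹ := by group
        unfold zi
        rw [map_pow, map_mul, e1, map_inv, hk, hy, e2]
        simp only [map_pow, map_mul, map_inv]
      obtain ⟨h2, h3, h4⟩ := h1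
      refine ⟨hι ?_, fun h5 => h3 (hc ?_), hι ?_⟩
      · rw [map_mul, e, ← map_mul, h2, map_one, map_one]
      · rw [← e, h5, map_one, map_one]
      · rw [map_mul, map_mul, e, hy, ← map_mul, ← map_mul, h4]
  inv h := by
    rintro ⟨k, hk, h2, h3, h4⟩
    have e : ι (zz y h) = c ((u * (k * u * k⁻¹)) ^ 3) := by
      unfold zz
      rw [map_pow, map_mul, hk, hy]
      simp only [map_pow, map_mul, map_inv]
    refine ⟨hι ?_, fun h5 => h3 (hc ?_), hι ?_⟩
    · rw [map_mul, e, ← map_mul, h2, map_one, map_one]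
    · rw [← e, h5, map_one, map_one]
    · rw [map_mul, map_mul, e, hy, ← map_mul, ← map_mul, h4]
  two h h' := by
    rintro ⟨k, hk, h1⟩ ⟨k', hk', h1'⟩
    have e : ∀ h k, ι (h * y * h⁻¹) = c (k * u * k⁻¹) → ι (zz y h) = c ((u * (k * u * k⁻¹)) ^ 3) := by
      intro h k hk
      unfold zz
      rw [map_pow, map_mul, hk, hy]
      simp only [map_pow, map_mul, map_inv]
    obtain ⟨m, hm⟩ := L.two k k' h1 h1'
    exact ⟨m, hι (by rw [map_pow, map_mul, e h k hk, e h' k' hk', ← map_mul, ← map_pow, hm, map_one, map_one])⟩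

/-- a normal `3`-subgroup and an element of order three generate a `3`-group -/
theorem no_inv {H : Type*} [Group H] [Finite H] {y b : H} (hy : y ∈ pCore 3 H) (hb : b ^ 3 = 1)
    (hyb : (y * b) ^ 3 * (y * b) ^ 3 = 1) : (y * b) ^ 3 = 1 := by
  have hN : (pCore 3 H).Normal := Lib.Cores.pCore_normal 3
  have hp : IsPGroup 3 (pCore 3 H) := Lib.Cores.pCore_isPGroup 3
  have hf3 : Fact (Nat.Prime 3) := ⟨Nat.prime_three⟩
  have hbp : IsPGroup 3 (zpowers b) := by
    rw [IsPGroup.iff_orderOf]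
    rintro ⟨c, hc⟩
    obtain ⟨i, rfl⟩ := mem_zpowers_iff.1 hc
    have h1 : (b ^ i) ^ 3 = 1 := by rw [← zpow_natCast, ← zpow_mul, mul_comm, zpow_mul, zpow_natCast, hb, one_zpow]
    have h2 : orderOf (b ^ i) ∣ 3 := orderOf_dvd_of_pow_eq_one h1
    rw [Subgroup.orderOf_mk]
    rcases (Nat.dvd_prime Nat.prime_three).1 h2 with h3 | h3
    · exact ⟨0, by rw [h3, pow_zero]⟩
    · exact ⟨1, by rw [h3, pow_one]⟩
  have h1 : IsPGroup 3 ↥(pCore 3 H ⊔ zpowers b) := hp.to_sup_of_normal_left hbp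
  have h2 : (y * b) ^ 3 ∈ pCore 3 H ⊔ zpowers b :=
    pow_mem (mul_mem (mem_sup_left hy) (mem_sup_right (mem_zpowers b))) 3
  obtain ⟨k, hk⟩ := exists_pow h1 h2
  exact eq_one_of_sq Nat.prime_three (by norm_num) hk hyb

variable [Finite K]

/-- **a braid pair inside `⟨u, b⟩`** -/
theorem LRG.br_in {u : K} {Q : Subgroup K} (L : LRG u Q) {A : Subgroup K} (hA : Group.IsSolvable A) {b : K}
    (hu : u ∈ A) (hb : b ∈ A) (hb3 : b ^ 3 = 1) (hub : Br u b) : ∃ g ∈ A, Br u (g * u * g⁻¹) := by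
  have S := L.st (MonoidHom.id K) Function.injective_id A.subtype A.subtype_injective (y := ⟨u, hu⟩) rfl
    (fun h => ⟨h, rfl⟩)
  by_cases hu3 : (⟨u, hu⟩ : A) ∈ pCore 3 A
  · exfalso
    have h1 := no_inv (y := (⟨u, hu⟩ : A)) (b := ⟨b, hb⟩) hu3 (Subtype.ext hb3) (Subtype.ext hub.1)
    exact hub.2.1 (congrArg Subtype.val h1)
  · have hn : (pCore 3 A).Normal := Lib.Cores.pCore_normal 3
    have S' := S.quot (N := pCore 3 A) (Lib.Cores.pCore_isPGroup 3)
    have hs : Group.IsSolvable (A ⧸ pCore 3 A) := Group.isSolvable_of_surjective (QuotientGroup.mk'_surjective (pCore 3 A))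
    obtain ⟨w, hw, hwu⟩ := S'.exists_w hs (Lib.Cores.pCore_quotient_pCore 3)
      (fun h => hu3 ((QuotientGroup.eq_one_iff _).1 h))
    obtain ⟨h, -, k, hk, hkb⟩ := S'.braid hw hwu
    refine ⟨h, h.2, ?_⟩
    have h1 : (h : K) * u * (h : K)⁻¹ = k * u * k⁻¹ := hk
    rw [h1]
    exact hkb

/-- **order nine** -/
theorem LRG.not_nine (hZ : center K = ⊥) {u : K} {Q : Subgroup K} (L : LRG u Q) {x : MulAut K}
    (hx : x ^ 3 = MulAut.conj u) (hP : PS 2 x) : False := by
  obtain ⟨⟨b, ⟨g, rfl⟩, hb⟩⟩ : Nonempty {b : K // (∃ g : K, b = g * u * g⁻¹) ∧ Br u b} := by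
    have h1 := L.odd.pos
    exact (Nat.card_pos_iff.1 h1).1
  have hinj := conj_injective hZ
  have hxu : x u = u := by
    apply hinj
    rw [← aut_conj, ← hx]
    group
  have hs := hP ![1, g]
  set H : Subgroup (MulAut K) := closure (Set.range fun i => MulAut.conj ((![1, g] : Fin 2 → K) i) * x *
    (MulAut.conj ((![1, g] : Fin 2 → K) i))⁻¹) with hH
  have hxH : x ∈ H := subset_closure ⟨0, by simp⟩
  have hx'H : MulAut.conj g * x * (MulAut.conj g)⁻¹ ∈ H := subset_closure ⟨1, by simp⟩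
  -- the stabiliser of the class of `u`
  let T : Subgroup (MulAut K) :=
    { carrier := {h | ∃ k, h u = k * u * k⁻¹}
      mul_mem' := by
        rintro a c ⟨k, hk⟩ ⟨k', hk'⟩
        refine ⟨a k' * k, ?_⟩
        rw [MulAut.mul_apply, hk', map_mul, map_mul, map_inv, hk]
        group
      one_mem' := ⟨1, by simp⟩
      inv_mem' := by
        rintro a ⟨k, hk⟩
        refine ⟨(a⁻¹ k)⁻¹, ?_⟩
        have h1 : a⁻¹ k * a⁻¹ u * (a⁻¹ k)⁻¹ = u := by
          rw [← map_mul, ← map_inv, ← map_mul, ← hk, MulAut.inv_apply_self]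
        calc a⁻¹ u = (a⁻¹ k)⁻¹ * (a⁻¹ k * a⁻¹ u * (a⁻¹ k)⁻¹) * (a⁻¹ k)⁻¹⁻¹ := by group
          _ = _ := by rw [h1] }
  have hT : ∀ h ∈ H, ∃ k, h u = k * u * k⁻¹ := by
    have h1 : H ≤ T := by
      rw [hH, closure_le]
      rintro _ ⟨i, rfl⟩
      have h2 : ∀ k : K, MulAut.conj k ∈ T := fun k => ⟨k, rfl⟩
      exact mul_mem (mul_mem (h2 _) ⟨1, by rw [hxu]; group⟩) (inv_mem (h2 _))
    exact h1
  have hyH : MulAut.conj u ∈ H := by rw [← hx]; exact pow_mem hxH 3
  have S := L.st MulAut.conj hinj H.subtype H.subtype_injective (y := ⟨MulAut.conj u, hyH⟩) rfl (by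
    intro h
    obtain ⟨k, hk⟩ := hT h h.2
    refine ⟨k, ?_⟩
    change (h : MulAut K) * MulAut.conj u * (h : MulAut K)⁻¹ = _
    rw [aut_conj, hk])
  have h1 := Nine.nine (x := ⟨x, hxH⟩) hs (Subtype.ext hx) S
  have e : (MulAut.conj g * x * (MulAut.conj g)⁻¹) ^ 3 = MulAut.conj (g * u * g⁻¹) := by
    rw [conj_pow, hx, map_mul, map_mul, map_inv]
  have hbH : MulAut.conj (g * u * g⁻¹) ∈ H := by rw [← e]; exact pow_mem hx'H 3
  have e2 : ((⟨MulAut.conj u, hyH⟩ * ⟨MulAut.conj (g * u * g⁻¹), hbH⟩ : H)) ^ 3 =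
      ⟨MulAut.conj ((u * (g * u * g⁻¹)) ^ 3), by
        rw [map_pow, map_mul]; exact pow_mem (mul_mem hyH hbH) 3⟩ := by
    apply Subtype.ext
    push_cast
    simp only [map_pow, map_mul]
  have h2 := no_inv h1 (b := ⟨MulAut.conj (g * u * g⁻¹), hbH⟩) (by
    apply Subtype.ext
    push_cast
    rw [← map_pow, conj_pow, L.cube]
    simp) (by
    rw [e2]
    apply Subtype.ext
    push_cast
    rw [← map_mul, hb.1, map_one])
  rw [e2] at h2
  have h3 := congrArg Subtype.val h2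
  apply hb.2.1
  apply hinj
  rw [map_one]
  exact h3

end Cfsg.Agent.H880.Six
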